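import Mathlib

/-!
# Global functions on flat schemes over local Artin rings
-/

universe u

open AlgebraicGeometry CategoryTheory TopologicalSpace Opposite

noncomputable section

namespace Groth.Agent.ArtGlobal29

variable {C : Type u} [CommRing C]

theorem top_le_preimage {X Y : Scheme.{u}} (g : X ⟶ Y) (U : X.Opens) : U ≤ g ⁻¹ᵁ ⊤ := fun _ _ => trivial

variable {X : Scheme.{u}} (g : X ⟶ Spec (CommRingCat.of C))

/-- The `C`-algebra structure on sections. -/
def strMap (U : X.Opens) : C →+* Γ(X, U) :=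
  ((Scheme.ΓSpecIso (CommRingCat.of C)).inv ≫ g.appLE ⊤ U (top_le_preimage g U)).hom

theorem res_res {Y : Scheme.{u}} {U V W : (Y.Opens)ᵒᵖ} (a : U ⟶ V) (b : V ⟶ W) (s : Y.presheaf.obj U) :
    Y.presheaf.map b (Y.presheaf.map a s) = Y.presheaf.map (a ≫ b) s := by
  rw [Functor.map_comp, ConcreteCategory.comp_apply]

theorem res_strMap {U V : X.Opens} (h : U ≤ V) (c : C) :
    X.presheaf.map (homOfLE h).op (strMap g V c) = strMap g U c := by
  show ((Scheme.ΓSpecIso (CommRingCat.of C)).inv ≫ g.appLE ⊤ V _ ≫ X.presheaf.map (homOfLE h).op).hom c = _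
  rw [Scheme.Hom.appLE_map]
  rfl

theorem flat_strMap [Flat g] {U : X.Opens} (hU : IsAffineOpen U) : (strMap g U).Flat := by
  have h1 := Flat.flat_appLE g (isAffineOpen_top _) hU (top_le_preimage g U)
  have h2 : ((Scheme.ΓSpecIso (CommRingCat.of C)).inv).hom.Flat :=
    RingHom.Flat.of_bijective (ConcreteCategory.bijective_of_isIso _)
  exact h2.comp h1

theorem mem_map_of_mul_mem [IsLocalRing C] {A : Type u} [CommRing A] [Algebra C A] [Module.Flat C A]
    {J : Ideal C} {e : C} (he : ∀ c, c * e ∈ J → c ∈ IsLocalRing.maximalIdeal C) (h : A)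
    (hh : algebraMap C A e * h ∈ J.map (algebraMap C A)) :
    h ∈ (IsLocalRing.maximalIdeal C).map (algebraMap C A) := by
  rw [← Ideal.span_eq J, Ideal.map_span, ← Set.image_congr fun _ _ => rfl] at hh
  obtain ⟨n, q, y, hy⟩ := Submodule.mem_span_set'.1 hh
  choose b hbJ hb using fun i => (y i).2
  have hrel : ∑ i : Option (Fin n), (Option.elim i e b) • (Option.elim i h fun i => -q i : A) = 0 := by
    rw [Fintype.sum_option]
    simp only [Option.elim, Algebra.smul_def]
    rw [← hy, ← Finset.sum_add_distrib]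
    exact Finset.sum_eq_zero fun i _ => by rw [← hb i, smul_eq_mul]; ring
  obtain ⟨k, a, z, hz, ha⟩ := Module.Flat.isTrivialRelation_of_sum_smul_eq_zero (R := C) (M := A) (ι := Option (Fin n))
    (f := fun i => Option.elim i e b) (x := fun i => Option.elim i h fun i => -q i) (by convert hrel)
  have h0 := hz none
  simp only [Option.elim] at h0
  rw [h0]
  refine Submodule.sum_mem _ fun j _ => ?_
  rw [Algebra.smul_def]
  refine Ideal.mul_mem_right _ _ (Ideal.mem_map_of_mem _ (he _ ?_))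
  have h1 := ha j
  rw [Fintype.sum_option] at h1
  simp only [Option.elim] at h1
  rw [mul_comm, eq_neg_of_add_eq_zero_left h1]
  exact J.neg_mem (Ideal.sum_mem _ fun i _ => J.mul_mem_right _ (hbJ i))

theorem exists_step (J : Ideal C) [IsNoetherianRing C] [IsLocalRing C] (hJ : J ≠ ⊥) :
    ∃ (J₀ : Ideal C) (e : C), J₀ < J ∧ J = J₀ ⊔ Ideal.span {e} ∧
      (∀ c, c * e ∈ J₀ → c ∈ IsLocalRing.maximalIdeal C) ∧
      (∀ m ∈ IsLocalRing.maximalIdeal C, e * m ∈ J₀) := by
  obtain ⟨J₀, hJ₀, hmax⟩ := (IsNoetherian.wf (R := C) (M := C) inferInstance).has_min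
    {K : Ideal C | K < J} ⟨⊥, bot_lt_iff_ne_bot.2 hJ⟩
  obtain ⟨e, he, heJ⟩ := SetLike.exists_of_lt (show J₀ < J from hJ₀)
  refine ⟨J₀, e, hJ₀, ?_, fun c hc => ?_, fun m hm => ?_⟩
  · by_contra hne
    have hlt : J₀ ⊔ Ideal.span {e} < J :=
      lt_of_le_of_ne (sup_le hJ₀.le ((Ideal.span_singleton_le_iff_mem _).2 he)) (Ne.symm hne)
    refine hmax _ hlt (lt_of_le_of_ne le_sup_left fun h => heJ ?_)
    rw [h]; exact Ideal.mem_sup_right (Ideal.mem_span_singleton_self e)
  · by_contra hcu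
    have hu : IsUnit c := by simpa using hcu
    exact heJ ((Ideal.unit_mul_mem_iff_mem _ hu).1 hc)
  · by_contra hne
    have hle : J₀ ⊔ Ideal.span {e * m} ≤ J :=
      sup_le hJ₀.le ((Ideal.span_singleton_le_iff_mem _).2 (J.mul_mem_right _ he))
    rcases hle.lt_or_eq with hlt | heq
    · exact hmax _ hlt (lt_of_le_of_ne le_sup_left fun h => hne (h ▸ Ideal.mem_sup_right (Ideal.mem_span_singleton_self _)))
    · obtain ⟨j, hj, z, hz, hjz⟩ := Submodule.mem_sup.1 (heq ▸ he : e ∈ J₀ ⊔ Ideal.span {e * m})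
      obtain ⟨q, rfl⟩ := Ideal.mem_span_singleton'.1 hz
      have h1 : (1 - q * m) * e ∈ J₀ := by
        rw [show (1 - q * m) * e = j by linear_combination -hjz]; exact hj
      have hu : IsUnit (1 - q * m) := IsLocalRing.isUnit_one_sub_self_of_mem_nonunits _
        ((IsLocalRing.maximalIdeal C).mul_mem_left q hm)
      exact heJ ((Ideal.unit_mul_mem_iff_mem _ hu).1 h1)

section Fibre

variable [IsLocalRing C] (X₀ : Scheme.{u}) (i : X₀ ⟶ X)
  (f₀ : X₀ ⟶ Spec (CommRingCat.of (C ⧸ IsLocalRing.maximalIdeal C)))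
  (hsq : IsPullback i f₀ g (Spec.map (CommRingCat.ofHom (Ideal.Quotient.mk (IsLocalRing.maximalIdeal C)))))

include hsq

theorem app_strMap (U : X.Opens) (c : C) :
    i.app U (strMap g U c) = strMap f₀ (i ⁻¹ᵁ U) (Ideal.Quotient.mk (IsLocalRing.maximalIdeal C) c) := by
  have key : ∀ {V} (e : V = i ⁻¹ᵁ U) (e' : V ≤ i ⁻¹ᵁ U),
      (Scheme.ΓSpecIso (CommRingCat.of C)).inv ≫ g.appLE ⊤ U (top_le_preimage g U) ≫ i.appLE U V e' =
        CommRingCat.ofHom (Ideal.Quotient.mk (IsLocalRing.maximalIdeal C)) ≫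
          (Scheme.ΓSpecIso (CommRingCat.of (C ⧸ IsLocalRing.maximalIdeal C))).inv ≫
            f₀.appLE ⊤ V (top_le_preimage f₀ V) := by
    intro V _ e'
    rw [Scheme.Hom.appLE_comp_appLE]
    have hw := hsq.w
    simp only [hw, Scheme.Hom.comp_appLE]
    rw [Scheme.ΓSpecIso_inv_naturality_assoc]
    rfl
  have h := congrArg (fun φ => CommRingCat.Hom.hom φ c) (key rfl le_rfl)
  simp only [← Scheme.Hom.app_eq_appLE] at h
  exact h

theorem ker_app {U : X.Opens} (hU : IsAffineOpen U) :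
    RingHom.ker (i.app U).hom = (IsLocalRing.maximalIdeal C).map (strMap g U) := by
  refine le_antisymm (fun a ha => ?_) ?_
  · let M := (IsLocalRing.maximalIdeal C).map (strMap g U)
    let qA : CommRingCat.of Γ(X, U) ⟶ CommRingCat.of (Γ(X, U) ⧸ M) := CommRingCat.ofHom (Ideal.Quotient.mk M)
    let ξ : Spec (CommRingCat.of (Γ(X, U) ⧸ M)) ⟶ X := Spec.map qA ≫ hU.fromSpec
    let ρ : C ⧸ IsLocalRing.maximalIdeal C →+* Γ(X, U) ⧸ M :=
      Ideal.quotientMap M (strMap g U) Ideal.le_comap_map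
    have eU : ⊤ ≤ ξ ⁻¹ᵁ U := by
      show ⊤ ≤ (Spec.map qA) ⁻¹ᵁ (hU.fromSpec ⁻¹ᵁ U)
      rw [hU.fromSpec_preimage_self]
      exact le_rfl
    have hξ : ξ.appLE U ⊤ eU = qA ≫ (Scheme.ΓSpecIso (CommRingCat.of (Γ(X, U) ⧸ M))).inv := by
      simp only [ξ, Scheme.Hom.comp_appLE, hU.fromSpec_app_self, Category.assoc, Scheme.Hom.map_appLE]
      rw [Scheme.ΓSpecIso_inv_naturality qA, Scheme.Hom.appTop, Scheme.Hom.app_eq_appLE]
      rfl
    have w : ξ ≫ g = Spec.map (CommRingCat.ofHom ρ) ≫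
        Spec.map (CommRingCat.ofHom (Ideal.Quotient.mk (IsLocalRing.maximalIdeal C))) := by
      refine ext_of_isAffine ?_
      rw [← Spec.map_comp]
      have h1 : (ξ ≫ g).appTop = g.appLE ⊤ U (top_le_preimage g U) ≫ ξ.appLE U ⊤ eU := by
        rw [Scheme.Hom.appLE_comp_appLE, Scheme.Hom.appTop, Scheme.Hom.app_eq_appLE]
        rfl
      rw [h1, hξ, ← cancel_epi (Scheme.ΓSpecIso (CommRingCat.of C)).inv, ← Scheme.ΓSpecIso_inv_naturality]
      simp only [← Category.assoc]
      congr 1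
    have h2 : ξ.appLE U ⊤ eU a = 0 := by
      have hl := hsq.lift_fst ξ (Spec.map (CommRingCat.ofHom ρ)) w
      have e2 : ⊤ ≤ hsq.lift ξ (Spec.map (CommRingCat.ofHom ρ)) w ⁻¹ᵁ (i ⁻¹ᵁ U) := by
        rw [← Scheme.Hom.comp_preimage, hl]; exact eU
      have : ξ.appLE U ⊤ eU = i.app U ≫ (hsq.lift ξ (Spec.map (CommRingCat.ofHom ρ)) w).appLE (i ⁻¹ᵁ U) ⊤ e2 := by
        rw [← Scheme.Hom.comp_appLE]
        simp only [hl]
      rw [this, ConcreteCategory.comp_apply, show i.app U a = 0 from ha, map_zero]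
    rw [hξ, ConcreteCategory.comp_apply] at h2
    have h3 := (ConcreteCategory.bijective_of_isIso (Scheme.ΓSpecIso (CommRingCat.of (Γ(X, U) ⧸ M))).inv).1
      (h2.trans (map_zero _).symm)
    exact Ideal.Quotient.eq_zero_iff_mem.1 h3
  · rw [Ideal.map_le_iff_le_comap]
    intro c hc
    show i.app U (strMap g U c) = 0
    rw [app_strMap g X₀ i f₀ hsq, Ideal.Quotient.eq_zero_iff_mem.2 hc, map_zero]

variable [IsArtinianRing C] [Flat g]

theorem bijective_strMap (h0 : Function.Bijective (strMap f₀ ⊤)) : Function.Bijective (strMap g ⊤) := by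
  haveI : IsClosedImmersion i := by
    have : IsClosedImmersion (Spec.map (CommRingCat.ofHom (Ideal.Quotient.mk (IsLocalRing.maximalIdeal C)))) :=
      IsClosedImmersion.spec_of_surjective _ Ideal.Quotient.mk_surjective
    exact MorphismProperty.of_isPullback hsq.flip this
  have sep : ∀ s t : Γ(X, ⊤), (∀ U : X.affineOpens, X.presheaf.map (homOfLE (le_top : (U : X.Opens) ≤ ⊤)).op s =
      X.presheaf.map (homOfLE (le_top : (U : X.Opens) ≤ ⊤)).op t) → s = t := fun s t h =>
    X.sheaf.eq_of_locally_eq' (fun U : X.affineOpens => (U : X.Opens)) ⊤ (fun _ => homOfLE le_top)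
      (iSup_affineOpens_eq_top X).ge s t h
  have main : ∀ J : Ideal C, ∀ s : Γ(X, ⊤),
      (∀ U : X.affineOpens, X.presheaf.map (homOfLE (le_top : (U : X.Opens) ≤ ⊤)).op s ∈ J.map (strMap g U)) →
        ∃ c, strMap g ⊤ c = s := by
    intro J
    induction J using WellFoundedLT.induction with
    | ind J ih =>
      intro s hs
      by_cases hJ : J = ⊥
      · refine ⟨0, sep _ _ fun U => ?_⟩
        have h := hs U
        rw [hJ, Ideal.map_bot, Submodule.mem_bot] at h
        rw [h, map_zero, map_zero]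
      obtain ⟨J₀, e, hJ₀, hJe, hcol, hem⟩ := exists_step J hJ
      have hdec : ∀ U : X.affineOpens, ∃ h : Γ(X, U),
          X.presheaf.map (homOfLE (le_top : (U : X.Opens) ≤ ⊤)).op s - strMap g U e * h ∈ J₀.map (strMap g U) := by
        intro U
        have h := hs U
        rw [hJe, Ideal.map_sup, Ideal.map_span, Set.image_singleton] at h
        obtain ⟨j, hj, z, hz, hjz⟩ := Submodule.mem_sup.1 h
        obtain ⟨h', rfl⟩ := Ideal.mem_span_singleton'.1 hz
        exact ⟨h', by rw [← hjz, mul_comm h', add_sub_cancel_right]; exact hj⟩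
      choose h hh using hdec
      have huniq : ∀ (U : X.affineOpens) (x : Γ(X, U)), strMap g U e * x ∈ J₀.map (strMap g U) →
          i.app U.1 x = 0 := by
        intro U x hx
        show x ∈ RingHom.ker (i.app U.1).hom
        rw [ker_app g X₀ i f₀ hsq U.2]
        letI := (strMap g U.1).toAlgebra
        haveI : Module.Flat C Γ(X, U) := flat_strMap g U.2
        exact mem_map_of_mul_mem hcol x hx
      let sf : ∀ U : X.affineOpens, Γ(X₀, i ⁻¹ᵁ U.1) := fun U => i.app U.1 (h U)
      have hres : ∀ (U W : X.affineOpens) (hWU : W.1 ≤ U.1),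
          i.app W.1 (X.presheaf.map (homOfLE hWU).op (h U)) = sf W := by
        intro U W hWU
        rw [← sub_eq_zero, ← map_sub]
        refine huniq W _ ?_
        have h1 := Ideal.mem_map_of_mem (X.presheaf.map (homOfLE hWU).op).hom (hh U)
        rw [Ideal.map_map, show (X.presheaf.map (homOfLE hWU).op).hom.comp (strMap g U.1) = strMap g W.1 from
          RingHom.ext (res_strMap g hWU)] at h1
        rw [map_sub, map_mul, res_strMap g hWU, ← ConcreteCategory.comp_apply, ← X.presheaf.map_comp] at h1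
        have h2 := Ideal.sub_mem _ (hh W) h1
        rw [mul_sub]
        convert h2 using 1
        rw [show (homOfLE (le_top : (U : X.Opens) ≤ ⊤)).op ≫ (homOfLE hWU).op = (homOfLE (le_top : (W : X.Opens) ≤ ⊤)).op from rfl]
        ring
      have hcompat : TopCat.Presheaf.IsCompatible X₀.presheaf (fun U : X.affineOpens => i ⁻¹ᵁ U.1) sf := by
        intro U V
        refine X₀.sheaf.eq_of_locally_eq' (fun W : {W : X.affineOpens // W.1 ≤ U.1 ⊓ V.1} => i ⁻¹ᵁ W.1.1) _
          (fun W => homOfLE (Opens.map i.base |>.map (homOfLE W.2) |>.le)) ?_ _ _ ?_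
        · intro x hx
          obtain ⟨W, hW, hxW, hWle⟩ := exists_isAffineOpen_mem_and_subset (x := i x) (U := U.1 ⊓ V.1) hx
          exact Opens.mem_iSup.2 ⟨⟨⟨W, hW⟩, hWle⟩, hxW⟩
        · intro W
          have key : ∀ (U' : X.affineOpens) (hle : W.1.1 ≤ U'.1),
              X₀.presheaf.map (homOfLE (Opens.map i.base |>.map (homOfLE hle) |>.le)).op (sf U') = sf W.1 := by
            intro U' hle
            rw [← hres U' W.1 hle]
            exact (ConcreteCategory.congr_hom (i.naturality (homOfLE hle).op) (h U')).symm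
          exact (res_res _ _ _).trans ((key U (W.2.trans inf_le_left)).trans
            ((key V (W.2.trans inf_le_right)).symm.trans (res_res _ _ _).symm))
      obtain ⟨t, ht, -⟩ := X₀.sheaf.existsUnique_gluing' (fun U : X.affineOpens => i ⁻¹ᵁ U.1) ⊤
        (fun _ => homOfLE le_top) (by
          intro x _
          obtain ⟨W, hW, hxW, -⟩ := exists_isAffineOpen_mem_and_subset (x := i x) (U := ⊤) trivial
          exact Opens.mem_iSup.2 ⟨⟨W, hW⟩, hxW⟩) sf hcompat
      obtain ⟨c₀, hc₀⟩ := h0.2 t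
      obtain ⟨c, rfl⟩ := Ideal.Quotient.mk_surjective c₀
      obtain ⟨d, hd⟩ := ih J₀ hJ₀ (s - strMap g ⊤ (e * c)) fun U => by
        have hker : h U - strMap g U c ∈ (IsLocalRing.maximalIdeal C).map (strMap g U) := by
          rw [← ker_app g X₀ i f₀ hsq U.2, RingHom.mem_ker, map_sub, sub_eq_zero]
          show sf U = i.app U.1 (strMap g U c)
          rw [app_strMap g X₀ i f₀ hsq, ← ht U, ← hc₀]
          exact res_strMap f₀ le_top _
        have hme : (Ideal.span {e} * IsLocalRing.maximalIdeal C) ≤ J₀ := by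
          rw [Ideal.span_singleton_mul_le_iff]
          exact hem
        have h2 : strMap g U e * (h U - strMap g U c) ∈ J₀.map (strMap g U) := by
          refine Ideal.map_mono hme ?_
          rw [Ideal.map_mul]
          exact Ideal.mul_mem_mul (Ideal.mem_map_of_mem _ (Ideal.mem_span_singleton_self e)) hker
        rw [map_sub, res_strMap, map_mul]
        convert Ideal.add_mem _ (hh U) h2 using 1
        ring
      exact ⟨d + e * c, by rw [map_add, hd, sub_add_cancel]⟩
  refine ⟨?_, fun s => main ⊤ s fun U => by rw [Ideal.map_top]; trivial⟩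
  rw [injective_iff_map_eq_zero]
  intro c hc
  haveI : Nontrivial Γ(X₀, ⊤) := (RingEquiv.ofBijective _ h0).toEquiv.symm.nontrivial
  obtain ⟨x⟩ : Nonempty X₀ := by
    by_contra hne
    rw [not_nonempty_iff] at hne
    exact false_of_nontrivial_of_subsingleton Γ(X₀, ⊤)
  obtain ⟨U, hU, hxU, -⟩ := exists_isAffineOpen_mem_and_subset (x := i x) (U := ⊤) trivial
  haveI : Nonempty (i ⁻¹ᵁ U) := ⟨⟨x, hxU⟩⟩
  by_contra hne
  have hcU : strMap g U c = 0 := by rw [← res_strMap g (le_top : U ≤ ⊤), hc, map_zero]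
  letI := (strMap g U).toAlgebra
  haveI : Module.Flat C Γ(X, U) := flat_strMap g hU
  have h1 : (1 : Γ(X, U)) ∈ RingHom.ker (i.app U).hom := by
    rw [ker_app g X₀ i f₀ hsq hU]
    refine mem_map_of_mul_mem (J := ⊥) (e := c) (fun a ha => ?_) 1 ?_
    · rw [Submodule.mem_bot] at ha
      by_contra hau
      have hu : IsUnit a := by simpa using hau
      exact hne (hu.mul_right_eq_zero.1 ha)
    · rw [mul_one, Ideal.map_bot]; exact hcU
  rw [RingHom.mem_ker, map_one] at h1
  exact one_ne_zero h1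

end Fibre

end Groth.Agent.ArtGlobal29
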