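import Groth.Agent.Rat20Lib.Hartogs
import Groth.Agent.CAlgH3.Serre
import Groth.Agent.CAlgH3.FlatDepth
import Groth.Prelude.Def_Pi1
import Mathlib

/-!
# Hartogs for flat families over Artin rings with normal special fibre
-/

universe u

open AlgebraicGeometry CategoryTheory TopologicalSpace

noncomputable section

namespace Groth.Agent.ArtGlobal29

variable {C : Type u} [CommRing C] [IsLocalRing C] [IsArtinianRing C] {A : Type u} [CommRing A]
  [IsNoetherianRing A] [Algebra C A] [Module.Flat C A]

theorem two_le_depth_atPrime (p : Ideal A) [p.IsPrime]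
    (hnorm : ∀ (q : Ideal (A ⧸ (IsLocalRing.maximalIdeal C).map (algebraMap C A))) [q.IsPrime],
      IsDomain (Localization.AtPrime q) ∧ IsIntegrallyClosed (Localization.AtPrime q))
    (hp : (2 : ℕ∞) ≤ p.height) :
    (2 : ℕ∞) ≤ _root_.LocCoh.depth (Localization.AtPrime p) (Localization.AtPrime p) := by
  let B := Localization.AtPrime p
  let M := (IsLocalRing.maximalIdeal C).map (algebraMap C A)
  obtain ⟨N, hN⟩ : IsNilpotent (IsLocalRing.maximalIdeal C) := by
    rw [← IsLocalRing.jacobson_eq_maximalIdeal ⊥ bot_ne_top]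
    exact IsArtinianRing.isNilpotent_jacobson_bot (R := C)
  have hnil : ∀ (S : Type u) [CommRing S] [Algebra C S] (P : Ideal S) [P.IsPrime],
      (IsLocalRing.maximalIdeal C).map (algebraMap C S) ≤ P := by
    intro S _ _ P _
    rw [Ideal.map_le_iff_le_comap]
    intro c hc
    have h := Ideal.pow_mem_pow hc N
    rw [hN, Ideal.zero_eq_bot, Submodule.mem_bot] at h
    exact (inferInstance : P.IsPrime).mem_of_pow_mem N (by rw [← map_pow, h, map_zero]; exact zero_mem _)
  haveI : Module.Flat C B := Module.Flat.trans C A B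
  haveI : IsLocalHom (algebraMap C B) := ⟨fun c hc => by
    by_contra hcu
    exact (IsLocalRing.mem_maximalIdeal _).1 (hnil B (IsLocalRing.maximalIdeal B) (Ideal.mem_map_of_mem _ hcu)) hc⟩
  let q : Ideal (A ⧸ M) := p.map (Ideal.Quotient.mk M)
  haveI hq : q.IsPrime := Ideal.map_isPrime_of_surjective Ideal.Quotient.mk_surjective (by rw [Ideal.mk_ker]; exact hnil A p)
  have hcomap : p = q.comap (Ideal.Quotient.mk M) := by
    rw [Ideal.comap_map_of_surjective' _ Ideal.Quotient.mk_surjective, Ideal.mk_ker, sup_eq_left.2 (hnil A p)]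
  let ψ : B →+* Localization.AtPrime q := Localization.localRingHom p q (Ideal.Quotient.mk M) hcomap
  have hψ : Function.Surjective ψ := by
    intro z
    obtain ⟨a, s, rfl⟩ := IsLocalization.exists_mk'_eq q.primeCompl z
    obtain ⟨a, rfl⟩ := Ideal.Quotient.mk_surjective a
    obtain ⟨s', hs'⟩ := Ideal.Quotient.mk_surjective (s : A ⧸ M)
    have hs'p : s' ∈ p.primeCompl := fun h => s.2 (by rw [← hs']; exact Ideal.mem_map_of_mem _ h)
    exact ⟨IsLocalization.mk' B a ⟨s', hs'p⟩, by
      rw [Localization.localRingHom_mk']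
      congr 1
      exact Subtype.ext hs'⟩
  have hker : RingHom.ker ψ = (IsLocalRing.maximalIdeal C).map (algebraMap C B) := by
    rw [IsScalarTower.algebraMap_eq C A B, ← Ideal.map_map]
    refine le_antisymm (fun z hz => ?_) ?_
    · obtain ⟨a, s, rfl⟩ := IsLocalization.exists_mk'_eq p.primeCompl z
      rw [RingHom.mem_ker, Localization.localRingHom_mk', IsLocalization.mk'_eq_zero_iff] at hz
      obtain ⟨⟨t, ht⟩, hta⟩ := hz
      obtain ⟨t', rfl⟩ := Ideal.Quotient.mk_surjective t
      rw [← map_mul, Ideal.Quotient.eq_zero_iff_mem] at hta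
      refine (IsLocalization.mk'_mem_map_algebraMap_iff p.primeCompl B M a s).2
        ⟨t', fun h => ht (Ideal.mem_map_of_mem _ h), hta⟩
    · rw [Ideal.map_le_iff_le_comap]
      intro a ha
      rw [Ideal.mem_comap, RingHom.mem_ker, Localization.localRingHom_to_map,
        Ideal.Quotient.eq_zero_iff_mem.2 ha, map_zero]
  let e := RingHom.quotientKerEquivOfSurjective hψ
  obtain ⟨hdom, hic⟩ := hnorm q
  haveI : IsDomain (Localization.AtPrime q) := hdom
  haveI : IsIntegrallyClosed (Localization.AtPrime q) := hic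
  have hdim : (2 : WithBot ℕ∞) ≤ ringKrullDim (Localization.AtPrime q) := by
    rw [← ringKrullDim_eq_of_ringEquiv e, ringKrullDim_quotient]
    have huniv : PrimeSpectrum.zeroLocus ((RingHom.ker ψ : Ideal B) : Set B) = Set.univ := by
      refine Set.eq_univ_of_forall fun P => ?_
      rw [PrimeSpectrum.mem_zeroLocus, hker]
      exact hnil B P.asIdeal
    rw [Order.krullDim_eq_of_orderIso ((OrderIso.setCongr _ _ huniv).trans OrderIso.Set.univ)]
    have h := IsLocalization.AtPrime.ringKrullDim_eq_height p B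
    rw [ringKrullDim] at h
    rw [h]
    exact WithBot.coe_le_coe.2 hp
  have h2 := CAlgH3.two_le_depth_of_normal (R := Localization.AtPrime q) hdim
  have h3 : _root_.LocCoh.depth B (B ⧸ (IsLocalRing.maximalIdeal C).map (algebraMap C B)) =
      _root_.LocCoh.depth (Localization.AtPrime q) (Localization.AtPrime q) := by
    rw [← hker]
    haveI : Nontrivial (B ⧸ RingHom.ker ψ) := e.toEquiv.nontrivial
    haveI : IsLocalRing (B ⧸ RingHom.ker ψ) :=
      IsLocalRing.of_surjective' (Ideal.Quotient.mk _) Ideal.Quotient.mk_surjective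
    rw [← CAlgH3.depth_quotient_ring, CAlgH3.depth_ringEquiv e]
  refine le_trans ?_ (CAlgH3.depth_add_depth_fibre_le_self (A := C) (B := B))
  rw [h3]
  exact h2.trans le_add_self

theorem restrict_bijective
    (hnorm : Pi1.IsNormalScheme (Spec (CommRingCat.of (A ⧸ (IsLocalRing.maximalIdeal C).map (algebraMap C A)))))
    (U : (Spec (CommRingCat.of A)).Opens)
    (hU : ∀ p : ↥(Spec (CommRingCat.of A)), p ∉ U → (2 : ℕ∞) ≤ p.asIdeal.height) :
    Function.Bijective ((Spec (CommRingCat.of A)).presheaf.map (homOfLE (le_top : U ≤ ⊤)).op) := by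
  have hn : ∀ (q : Ideal (A ⧸ (IsLocalRing.maximalIdeal C).map (algebraMap C A))) [q.IsPrime],
      IsDomain (Localization.AtPrime q) ∧ IsIntegrallyClosed (Localization.AtPrime q) := by
    intro q hq
    obtain ⟨h1, h2⟩ := hnorm ⟨q, hq⟩
    let e := (StructureSheaf.stalkIso (A ⧸ (IsLocalRing.maximalIdeal C).map (algebraMap C A)) ⟨q, hq⟩).toRingEquiv
    exact ⟨e.symm.toMulEquiv.isDomain_iff.1 h1, @IsIntegrallyClosed.of_equiv _ _ _ _ e.symm h2⟩
  have hdepth : ∀ x : Spec (CommRingCat.of A), x ∉ U →
      (2 : ℕ∞) ≤ _root_.LocCoh.depth ((Spec (CommRingCat.of A)).presheaf.stalk x) ((Spec (CommRingCat.of A)).presheaf.stalk x) := by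
    intro x hx
    refine le_trans (two_le_depth_atPrime x.asIdeal hn (hU x hx)) (le_of_eq ?_)
    exact CAlgH3.depth_ringEquiv (StructureSheaf.stalkIso A x).toRingEquiv
  have h := Rat20Lib.res_bijective U hdepth ⊤
  have aux : ∀ (T : (Spec (CommRingCat.of A)).Opens) (_ : T = ⊤ ⊓ U) (hle : T ≤ ⊤),
      Function.Bijective ((Spec (CommRingCat.of A)).presheaf.map (homOfLE hle).op) := by
    rintro T rfl hle
    exact h
  exact aux U (top_inf_eq U).symm le_top

end Groth.Agent.ArtGlobal29
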