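import Groth.Agent.ArtGlobal29.Trivial

/-!
# First-order deformations of marked smooth affine schemes are trivial
-/

universe u v

open AlgebraicGeometry CategoryTheory Limits

noncomputable section

namespace Groth.Agent.ArtGlobal29

/-- Tangent vectors at finitely many distinct rational points of a smooth algebra extend to a derivation. -/
theorem exists_derivation_of_values {k R : Type u} [Field k] [CommRing R] [Algebra k R] [Algebra.Smooth k R]
    {ι : Type v} [Finite ι] (ψ : ι → (R →ₐ[k] k)) (hinj : Function.Injective ψ) (D : ι → R → k)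
    (hadd : ∀ j a b, D j (a + b) = D j a + D j b) (hsmul : ∀ j (c : k) a, D j (c • a) = c * D j a)
    (hmul : ∀ j a b, D j (a * b) = ψ j a * D j b + ψ j b * D j a) :
    ∃ δ : Derivation k R R, ∀ j r, ψ j (δ r) = D j r := by
  classical
  cases nonempty_fintype ι
  letI : Algebra R (ι → k) := (AlgHom.toRingHom (Pi.algHom k (fun _ => k) ψ)).toAlgebra
  haveI : IsScalarTower k R (ι → k) :=
    IsScalarTower.of_algebraMap_eq fun c => funext fun j => ((ψ j).commutes c).symm
  have hsm : ∀ (r : R) (m : ι → k) j, (r • m) j = ψ j r * m j := fun r m j => rfl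
  have hsep : ∀ j l, j ≠ l → ∃ r, ψ j r = 1 ∧ ψ l r = 0 := by
    intro j l h
    obtain ⟨r, hr⟩ : ∃ r, ψ j r ≠ ψ l r := by
      by_contra hne
      exact h (hinj (AlgHom.ext fun r => not_not.1 fun hh => hne ⟨r, hh⟩))
    refine ⟨(ψ j r - ψ l r)⁻¹ • (r - algebraMap k R (ψ l r)), ?_, ?_⟩
    · rw [map_smul, map_sub, AlgHom.commutes, Algebra.algebraMap_self, RingHom.id_apply, smul_eq_mul,
        inv_mul_cancel₀ (sub_ne_zero.2 hr)]
    · rw [map_smul, map_sub, AlgHom.commutes, Algebra.algebraMap_self, RingHom.id_apply, sub_self, smul_zero]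
  choose r hr1 hr0 using hsep
  have hsurj : Function.Surjective (Algebra.linearMap R (ι → k)) := by
    intro v
    refine ⟨∑ j, v j • ∏ l, if h : j ≠ l then r j l h else 1, funext fun m => ?_⟩
    show ψ m _ = v m
    rw [map_sum, Finset.sum_eq_single m]
    · rw [map_smul, map_prod, Finset.prod_eq_one, smul_eq_mul, mul_one]
      intro l _
      by_cases h : m ≠ l
      · rw [dif_pos h, hr1]
      · rw [dif_neg h, map_one]
    · intro j _ hj
      rw [map_smul, map_prod, Finset.prod_eq_zero (Finset.mem_univ m), smul_zero]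
      rw [dif_pos hj, hr0]
    · exact fun h => absurd (Finset.mem_univ m) h
  let d : Derivation k R (ι → k) := Derivation.mk'
    { toFun := fun a j => D j a
      map_add' := fun a b => funext fun j => hadd j a b
      map_smul' := fun c a => funext fun j => hsmul j c a }
    fun a b => funext fun j => hmul j a b
  obtain ⟨h, hh⟩ := Module.projective_lifting_property (Algebra.linearMap R (ι → k)) d.liftKaehlerDifferential hsurj
  refine ⟨h.compDer (KaehlerDifferential.D k R), fun j a => ?_⟩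
  have h1 := LinearMap.congr_fun hh (KaehlerDifferential.D k R a)
  rw [LinearMap.comp_apply, Derivation.liftKaehlerDifferential_comp_D] at h1
  exact congrFun h1 j

theorem appTop_spec_map {R S : CommRingCat.{u}} (f : R ⟶ S) :
    (Scheme.ΓSpecIso R).inv ≫ (Spec.map f).appTop ≫ (Scheme.ΓSpecIso S).hom = f := by
  rw [Scheme.ΓSpecIso_naturality, Iso.inv_hom_id_assoc]

theorem exists_iso_trivial_marked (k : Type u) [Field k] (X : Scheme.{u})
    (hX : X ⟶ Spec (CommRingCat.of k)) [IsAffine X] [Smooth hX]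
    {ι : Type v} [Finite ι] (p : ι → (Spec (CommRingCat.of k) ⟶ X)) (hp : ∀ j, p j ≫ hX = 𝟙 _)
    (hinj : Function.Injective p)
    (X' : Scheme.{u}) (g : X' ⟶ Spec (CommRingCat.of (DualNumber k))) [Flat g] (i : X ⟶ X')
    (hsq : IsPullback i hX g (Spec.map (CommRingCat.ofHom (TrivSqZeroExt.fstHom k k k).toRingHom)))
    (p' : ι → (Spec (CommRingCat.of (DualNumber k)) ⟶ X')) (hp' : ∀ j, p' j ≫ g = 𝟙 _)
    (hpp' : ∀ j, p j ≫ i = Spec.map (CommRingCat.ofHom (TrivSqZeroExt.fstHom k k k).toRingHom) ≫ p' j) :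
    ∃ φ : X' ≅ pullback hX (Spec.map (CommRingCat.ofHom (algebraMap k (DualNumber k)))),
      φ.hom ≫ pullback.snd hX (Spec.map (CommRingCat.ofHom (algebraMap k (DualNumber k)))) = g ∧
        i ≫ φ.hom ≫ pullback.fst hX (Spec.map (CommRingCat.ofHom (algebraMap k (DualNumber k)))) = 𝟙 X ∧
          ∀ j, p' j ≫ φ.hom ≫ pullback.fst hX (Spec.map (CommRingCat.ofHom (algebraMap k (DualNumber k)))) =
            Spec.map (CommRingCat.ofHom (algebraMap k (DualNumber k))) ≫ p j := by
  classical
  haveI : Module.Finite k (DualNumber k) := inferInstanceAs (Module.Finite k (k × k))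
  haveI : IsArtinianRing (DualNumber k) := IsArtinianRing.of_finite k (DualNumber k)
  let e : (DualNumber k) →ₐ[k] k := TrivSqZeroExt.fstHom k k k
  let γk := (Scheme.ΓSpecIso (CommRingCat.of k)).inv
  let γA := (Scheme.ΓSpecIso (CommRingCat.of (DualNumber k))).inv
  haveI : Surjective (Spec.map (CommRingCat.ofHom e.toRingHom)) := by
    refine ⟨fun q => ⟨IsLocalRing.closedPoint k, ?_⟩⟩
    exact Subsingleton.elim (α := PrimeSpectrum (DualNumber k)) _ _
  haveI : IsClosedImmersion i := MorphismProperty.of_isPullback hsq.flip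
    (IsClosedImmersion.spec_of_surjective _ fun c => ⟨algebraMap k (DualNumber k) c, e.commutes c⟩)
  haveI : Surjective i := MorphismProperty.of_isPullback hsq.flip inferInstance
  haveI : IsAffine X' := Groth.Agent.VarietyLib.isAffine_of_surjective_closedImmersion i i.surjective
  have hsm : (γk ≫ hX.appTop).hom.Smooth := by
    have h1 := hX.smooth_appLE (isAffineOpen_top _) (isAffineOpen_top X) (V := ⊤) (U := ⊤) le_top
    have h2 : hX.appLE ⊤ ⊤ le_top = hX.appTop := by simp [Scheme.Hom.appLE]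
    rw [h2] at h1
    exact (RingHom.Smooth.of_bijective (ConcreteCategory.bijective_of_isIso γk)).comp h1
  obtain ⟨s₀, hk₀, hs₀⟩ := exists_ringHom_section hsm hsq
  letI algR : Algebra k Γ(X, ⊤) := (γk ≫ hX.appTop).hom.toAlgebra
  haveI : Algebra.Smooth k Γ(X, ⊤) := hsm
  let ιA : (DualNumber k) →+* Γ(X', ⊤) := (γA ≫ g.appTop).hom
  let ev : ι → Γ(X, ⊤) →+* k := fun j => ((p j).appTop ≫ (Scheme.ΓSpecIso (CommRingCat.of k)).hom).hom
  let ev' : ι → Γ(X', ⊤) →+* (DualNumber k) := fun j => ((p' j).appTop ≫ (Scheme.ΓSpecIso (CommRingCat.of (DualNumber k))).hom).hom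
  have hev : ∀ j c, ev j (algebraMap k Γ(X, ⊤) c) = c := by
    intro j c
    have h1 : γk ≫ hX.appTop ≫ (p j).appTop ≫ (Scheme.ΓSpecIso (CommRingCat.of k)).hom = 𝟙 _ := by
      rw [← Scheme.Hom.comp_appTop_assoc, hp, Scheme.Hom.id_appTop, Category.id_comp, Iso.inv_hom_id]
    exact congrArg (fun φ => CommRingCat.Hom.hom φ c) h1
  let ψ : ι → (Γ(X, ⊤) →ₐ[k] k) := fun j => { ev j with commutes' := hev j }
  have hev' : ∀ j a, ev' j (ιA a) = a := by
    intro j a
    have h1 : γA ≫ g.appTop ≫ (p' j).appTop ≫ (Scheme.ΓSpecIso (CommRingCat.of (DualNumber k))).hom = 𝟙 _ := by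
      rw [← Scheme.Hom.comp_appTop_assoc, hp', Scheme.Hom.id_appTop, Category.id_comp, Iso.inv_hom_id]
    exact congrArg (fun φ => CommRingCat.Hom.hom φ a) h1
  have hfst : ∀ j b, (ev' j b).fst = ev j (i.appTop b) := by
    intro j b
    have h1 := congrArg (fun f => f.appTop ≫ (Scheme.ΓSpecIso (CommRingCat.of k)).hom) (hpp' j)
    simp only [Scheme.Hom.comp_appTop, Category.assoc, Scheme.ΓSpecIso_naturality] at h1
    exact (congrArg (fun φ => CommRingCat.Hom.hom φ b) h1).symm
  have hψinj : Function.Injective ψ := by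
    intro j l h
    refine hinj (ext_of_isAffine ?_)
    rw [← cancel_mono (Scheme.ΓSpecIso (CommRingCat.of k)).hom]
    exact CommRingCat.hom_ext (congrArg (fun f : Γ(X, ⊤) →ₐ[k] k => f.toRingHom) h)
  let D : ι → Γ(X, ⊤) → k := fun j r => (ev' j (s₀ r)).snd
  have hfst₀ : ∀ j r, (ev' j (s₀ r)).fst = ev j r := fun j r => (hfst j _).trans (congrArg _ (hs₀ r))
  obtain ⟨δ, hδ⟩ := exists_derivation_of_values ψ hψinj D (fun j a b => by simp [D])
    (fun j c a => by
      simp only [D, Algebra.smul_def, map_mul]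
      rw [show s₀ (algebraMap k Γ(X, ⊤) c) = ιA (algebraMap k (DualNumber k) c) from hk₀ c, hev']
      simp [TrivSqZeroExt.snd_mul, TrivSqZeroExt.algebraMap_eq_inl])
    (fun j a b => by
      simp only [D, map_mul, TrivSqZeroExt.snd_mul, hfst₀, smul_eq_mul, op_smul_eq_smul]
      rfl)
  let ε' : Γ(X', ⊤) := ιA DualNumber.eps
  have hεε : ε' * ε' = 0 := by rw [← map_mul, DualNumber.eps_mul_eps, map_zero]
  let s : Γ(X, ⊤) →+* Γ(X', ⊤) :=
    { toFun := fun r => s₀ r - ε' * s₀ (δ r)
      map_one' := by simp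
      map_zero' := by simp
      map_add' := fun a b => by simp only [map_add]; ring
      map_mul' := fun a b => by
        simp only [Derivation.leibniz, map_add, map_mul, smul_eq_mul]
        linear_combination (-(s₀ (δ a) * s₀ (δ b))) * hεε }
  have hk : ∀ c, s ((γk ≫ hX.appTop) c) = (γA ≫ g.appTop) (algebraMap k (DualNumber k) c) := by
    intro c
    show s₀ _ - ε' * s₀ (δ (algebraMap k Γ(X, ⊤) c)) = _
    rw [δ.map_algebraMap, map_zero, mul_zero, sub_zero]
    exact hk₀ c
  have hiε : i.appTop ε' = 0 := by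
    have h1 : γA ≫ g.appTop ≫ i.appTop = CommRingCat.ofHom e.toRingHom ≫ γk ≫ hX.appTop := by
      rw [← Scheme.Hom.comp_appTop, hsq.w, Scheme.Hom.comp_appTop, Scheme.ΓSpecIso_inv_naturality_assoc]
    refine (congrArg (fun φ => CommRingCat.Hom.hom φ DualNumber.eps) h1).trans ?_
    show (γk ≫ hX.appTop).hom (e DualNumber.eps) = 0
    rw [show e DualNumber.eps = 0 from DualNumber.fst_eps, map_zero]
  have hs : ∀ r, i.appTop (s r) = r := by
    intro r
    show i.appTop (s₀ r - ε' * s₀ (δ r)) = r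
    rw [map_sub, map_mul, hs₀, hiε, zero_mul, sub_zero]
  obtain ⟨u, hu, hiu, hP⟩ := exists_isPullback_of_section hsq s hk hs
  refine ⟨hP.isoPullback, hP.isoPullback_hom_snd, ?_, fun j => ?_⟩
  · rw [hP.isoPullback_hom_fst, hiu]
  · rw [hP.isoPullback_hom_fst]
    refine ext_of_isAffine ?_
    rw [← cancel_mono (Scheme.ΓSpecIso (CommRingCat.of (DualNumber k))).hom]
    simp only [Scheme.Hom.comp_appTop, Category.assoc, Scheme.ΓSpecIso_naturality, hu]
    refine CommRingCat.hom_ext (RingHom.ext fun r => ?_)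
    show ev' j (s₀ r - ε' * s₀ (δ r)) = algebraMap k (DualNumber k) (ev j r)
    rw [map_sub, map_mul, hev']
    refine TrivSqZeroExt.ext ?_ ?_
    · simp [hfst₀, TrivSqZeroExt.algebraMap_eq_inl]
    · simp [TrivSqZeroExt.algebraMap_eq_inl, hfst₀]
      have := hδ j r
      exact sub_eq_zero.2 this.symm

end Groth.Agent.ArtGlobal29
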