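import Groth.Agent.FlatCrit.Inj
import Groth.Agent.FlatMorThick.Affine
import Groth.Agent.AlgSpLib.SmoothField
import Groth.Agent.Et18.Descent
import Mathlib

/-!
# Deformations of smooth affine schemes are trivial
-/

universe u

open AlgebraicGeometry CategoryTheory TensorProduct Limits

noncomputable section

namespace Groth.Agent.ArtGlobal29

section Alg

variable (k : Type u) [Field k] (A : Type u) [CommRing A] [IsLocalRing A] [IsArtinianRing A] [Algebra k A]
  (e : A →ₐ[k] k)

theorem ker_augmentation : RingHom.ker e.toRingHom = IsLocalRing.maximalIdeal A := by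
  haveI : (RingHom.ker e.toRingHom).IsMaximal :=
    RingHom.ker_isMaximal_of_surjective e.toRingHom (fun c => ⟨algebraMap k A c, e.commutes c⟩)
  exact IsLocalRing.eq_maximalIdeal inferInstance

theorem bijective_lift_of_section (R : Type u) [CommRing R] [Algebra k R] [Algebra.FiniteType k R]
    (B : Type u) [CommRing B] [Algebra k B] [Algebra A B] [IsScalarTower k A B] [Module.Flat A B]
    (π : B →ₐ[k] R)
    (hker : RingHom.ker π.toRingHom ≤ (RingHom.ker e.toRingHom).map (algebraMap A B))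
    (hcomm : ∀ a, π (algebraMap A B a) = algebraMap k R (e a))
    (s : R →ₐ[k] B) (hs : ∀ r, π (s r) = r) :
    Function.Bijective (Algebra.TensorProduct.lift (Algebra.ofId A B) s (fun _ _ => Commute.all _ _)) := by
  have hm := ker_augmentation k A e
  obtain ⟨N, hN⟩ : IsNilpotent (IsLocalRing.maximalIdeal A) := by
    rw [← IsLocalRing.jacobson_eq_maximalIdeal ⊥ bot_ne_top]
    exact IsArtinianRing.isNilpotent_jacobson_bot (R := A)
  have hnilA : IsNilpotent (RingHom.ker e.toRingHom) := ⟨N, by rw [hm, hN]⟩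
  let Φ := Algebra.TensorProduct.lift (Algebra.ofId A B) s (fun _ _ => Commute.all _ _)
  haveI : IsNoetherianRing (A ⊗[k] R) := Algebra.FiniteType.isNoetherianRing A (A ⊗[k] R)
  have hdec : ∀ x : A ⊗[k] R, ∃ r : R,
      x - (1 : A) ⊗ₜ r ∈ (IsLocalRing.maximalIdeal A • ⊤ : Submodule A (A ⊗[k] R)) := by
    intro x
    induction x with
    | zero => exact ⟨0, by simp⟩
    | add x y hx hy =>
      obtain ⟨r, hr⟩ := hx
      obtain ⟨r', hr'⟩ := hy
      exact ⟨r + r', by rw [TensorProduct.tmul_add, add_sub_add_comm]; exact add_mem hr hr'⟩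
    | tmul a r =>
      refine ⟨e a • r, ?_⟩
      rw [← TensorProduct.smul_tmul, Algebra.smul_def, mul_one, ← TensorProduct.sub_tmul,
        show (a - algebraMap k A (e a)) ⊗ₜ[k] r = (a - algebraMap k A (e a)) • ((1 : A) ⊗ₜ[k] r) by
          rw [TensorProduct.smul_tmul', smul_eq_mul, mul_one]]
      refine Submodule.smul_mem_smul (hm ▸ ?_) trivial
      simp
  have hπm : ∀ b ∈ (IsLocalRing.maximalIdeal A • ⊤ : Submodule A B), π b = 0 := by
    intro b hb
    induction hb using Submodule.smul_induction_on' with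
    | smul a ha y _ =>
      rw [Algebra.smul_def, map_mul, hcomm, show e a = 0 from (hm ▸ ha : a ∈ RingHom.ker e.toRingHom), map_zero, zero_mul]
    | add x _ y _ hx hy => rw [map_add, hx, hy, add_zero]
  have hP : ∀ x, Φ.toLinearMap x ∈ (IsLocalRing.maximalIdeal A • ⊤ : Submodule A B) →
      x ∈ (IsLocalRing.maximalIdeal A • ⊤ : Submodule A (A ⊗[k] R)) := by
    intro x hx
    obtain ⟨r, hr⟩ := hdec x
    have h1 := Submodule.mem_map_of_mem (f := Φ.toLinearMap) hr
    rw [Submodule.map_smul''] at h1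
    have h2 := hπm _ (Submodule.smul_mono le_rfl le_top h1)
    rw [map_sub, map_sub, hπm _ hx, zero_sub, neg_eq_zero] at h2
    have h3 : Φ.toLinearMap ((1 : A) ⊗ₜ r) = s r := by simp [Φ]
    rw [h3, hs] at h2
    rw [h2, TensorProduct.tmul_zero, sub_zero] at hr
    exact hr
  constructor
  · refine FlatCrit.injective_of_injective_mod_max (S := A ⊗[k] R) Φ.toLinearMap ?_ ?_
    · rw [← LinearMap.ker_eq_bot, LinearMap.ker_eq_bot']
      intro z hz
      obtain ⟨x, rfl⟩ := TensorProduct.mk_surjective A (A ⊗[k] R) (IsLocalRing.ResidueField A) Ideal.Quotient.mk_surjective z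
      have hx : Φ.toLinearMap x ∈ LinearMap.ker (TensorProduct.mk A (IsLocalRing.ResidueField A) B 1) := hz
      have hx' : Φ.toLinearMap x ∈ (IsLocalRing.maximalIdeal A • ⊤ : Submodule A B) :=
        (LinearMap.ker_tensorProductMk (Q := B) (I := IsLocalRing.maximalIdeal A)) ▸ hx
      have hk : LinearMap.ker (TensorProduct.mk A (IsLocalRing.ResidueField A) (A ⊗[k] R) 1) =
          (IsLocalRing.maximalIdeal A • ⊤ : Submodule A (A ⊗[k] R)) :=
        LinearMap.ker_tensorProductMk (Q := A ⊗[k] R) (I := IsLocalRing.maximalIdeal A)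
      exact LinearMap.mem_ker.1 (hk ▸ hP x hx')
    · rw [Ideal.map_le_iff_le_comap]
      intro a ha
      have h0 : a ^ N = 0 := by
        have h := Ideal.pow_mem_pow ha N
        rw [hN, Ideal.zero_eq_bot, Submodule.mem_bot] at h
        exact h
      rw [Ideal.mem_comap, Ideal.mem_jacobson_bot]
      intro y
      exact IsNilpotent.isUnit_add_one ⟨N, by rw [mul_pow, ← map_pow, h0, map_zero, zero_mul]⟩
  · have h : LinearMap.range Φ.toLinearMap ⊔ RingHom.ker e.toRingHom • (⊤ : Submodule A B) = ⊤ := by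
      rw [eq_top_iff]
      intro b _
      refine Submodule.mem_sup.2 ⟨s (π b), ⟨(1 : A) ⊗ₜ π b, by simp [Φ]⟩, b - s (π b), ?_, add_sub_cancel _ _⟩
      rw [Ideal.smul_top_eq_map]
      exact hker (by simp [hs])
    exact LinearMap.range_eq_top.1 (FlatCrit.submodule_eq_top_of_nilpotent hnilA _ h)


theorem exists_section (R : Type u) [CommRing R] [Algebra k R] [Algebra.Smooth k R]
    (B : Type u) [CommRing B] [Algebra k B] [Algebra A B] [IsScalarTower k A B]
    (π : B →ₐ[k] R) (hπ : Function.Surjective π)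
    (hker : RingHom.ker π.toRingHom ≤ (RingHom.ker e.toRingHom).map (algebraMap A B)) :
    ∃ s : R →ₐ[k] B, ∀ r, π (s r) = r := by
  have hm := ker_augmentation k A e
  obtain ⟨N, hN⟩ : IsNilpotent (IsLocalRing.maximalIdeal A) := by
    rw [← IsLocalRing.jacobson_eq_maximalIdeal ⊥ bot_ne_top]
    exact IsArtinianRing.isNilpotent_jacobson_bot (R := A)
  have hnil : IsNilpotent (RingHom.ker (π : B →+* R)) := by
    refine ⟨N, ?_⟩
    rw [Ideal.zero_eq_bot, eq_bot_iff]
    refine (Ideal.pow_right_mono (hker.trans_eq (by rw [hm])) N).trans ?_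
    rw [← Ideal.map_pow, hN, Ideal.zero_eq_bot, Ideal.map_bot]
  exact ⟨Algebra.FormallySmooth.liftOfSurjective (AlgHom.id k R) π hπ hnil,
    fun r => Algebra.FormallySmooth.liftOfSurjective_apply (AlgHom.id k R) π hπ hnil r⟩

end Alg

theorem smooth_of_regular_stalks (k : Type u) [Field k] [IsAlgClosed k] (X : Scheme.{u}) [IsAffine X]
    [Algebra k Γ(X, ⊤)] [Algebra.FiniteType k Γ(X, ⊤)]
    (hreg : ∀ x : X, IsRegularLocalRing (X.presheaf.stalk x)) : Algebra.Smooth k Γ(X, ⊤) := by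
  haveI : Algebra.FinitePresentation k Γ(X, ⊤) := Algebra.FinitePresentation.of_finiteType.1 inferInstance
  refine ⟨(Algebra.smoothLocus_eq_univ_iff (R := k) (A := Γ(X, ⊤))).1 ?_, inferInstance⟩
  by_contra hne
  obtain ⟨q, hq, hqc⟩ := IsClosed.exists_closed_singleton (Algebra.isOpen_smoothLocus (R := k) (A := Γ(X, ⊤))).isClosed_compl
    (Set.nonempty_compl.2 hne)
  haveI := (PrimeSpectrum.isClosed_singleton_iff_isMaximal q).1 hqc
  refine hq ((AlgSpLib.SmoothField.isSmoothAt_iff_regular k Γ(X, ⊤) q.asIdeal).2 ?_)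
  have hU := isAffineOpen_top X
  have hy : hU.fromSpec q ∈ (⊤ : X.Opens) := trivial
  letI := X.presheaf.algebra_section_stalk ⟨hU.fromSpec q, hy⟩
  haveI : IsLocalization.AtPrime (X.presheaf.stalk (hU.fromSpec q)) q.asIdeal := hU.isLocalization_stalk' q hy
  haveI := hreg (hU.fromSpec q)
  exact IsRegularLocalRing.of_ringEquiv
    (IsLocalization.algEquiv q.asIdeal.primeCompl (X.presheaf.stalk (hU.fromSpec q))
      (Localization.AtPrime q.asIdeal)).toRingEquiv

section Section

variable {k : Type u} [Field k] {X : Scheme.{u}} {hX : X ⟶ Spec (CommRingCat.of k)} [IsAffine X]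
  {A : Type u} [CommRing A] [IsLocalRing A] [IsArtinianRing A] [Algebra k A] {e : A →ₐ[k] k}
  {X' : Scheme.{u}} [IsAffine X'] {g : X' ⟶ Spec (CommRingCat.of A)} [Flat g] {i : X ⟶ X'}

/-- A section of the reduction map of a flat deformation of an affine scheme trivialises it. -/
theorem exists_isPullback_of_section [LocallyOfFiniteType hX]
    (hsq : IsPullback i hX g (Spec.map (CommRingCat.ofHom e.toRingHom)))
    (s : Γ(X, ⊤) →+* Γ(X', ⊤))
    (hk : ∀ c, s (((Scheme.ΓSpecIso (CommRingCat.of k)).inv ≫ hX.appTop) c) =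
      ((Scheme.ΓSpecIso (CommRingCat.of A)).inv ≫ g.appTop) (algebraMap k A c))
    (hs : ∀ r, i.appTop (s r) = r) :
    ∃ u : X' ⟶ X, u.appTop = CommRingCat.ofHom s ∧ i ≫ u = 𝟙 X ∧
      IsPullback u g hX (Spec.map (CommRingCat.ofHom (algebraMap k A))) := by
  haveI : IsClosedImmersion i := MorphismProperty.of_isPullback hsq.flip
    (IsClosedImmersion.spec_of_surjective _ fun c => ⟨algebraMap k A c, e.commutes c⟩)
  let γk := (Scheme.ΓSpecIso (CommRingCat.of k)).inv
  let γA := (Scheme.ΓSpecIso (CommRingCat.of A)).inv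
  letI algR : Algebra k Γ(X, ⊤) := (γk ≫ hX.appTop).hom.toAlgebra
  letI algAB : Algebra A Γ(X', ⊤) := (γA ≫ g.appTop).hom.toAlgebra
  letI algkB : Algebra k Γ(X', ⊤) := ((γA ≫ g.appTop).hom.comp (algebraMap k A)).toAlgebra
  haveI : IsScalarTower k A Γ(X', ⊤) := IsScalarTower.of_algebraMap_eq' rfl
  haveI : Algebra.FiniteType k Γ(X, ⊤) := by
    have h1 := LocallyOfFiniteType.finiteType_appLE hX (isAffineOpen_top _) (isAffineOpen_top X) (V := ⊤) (U := ⊤) le_top
    have h2 : hX.appLE ⊤ ⊤ le_top = hX.appTop := by simp [Scheme.Hom.appLE]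
    rw [h2] at h1
    exact (RingHom.finiteType_algebraMap (A := k) (B := Γ(X, ⊤))).1
      (h1.comp (RingHom.FiniteType.of_surjective γk.hom (ConcreteCategory.bijective_of_isIso γk).2))
  haveI : Module.Flat A Γ(X', ⊤) := by
    have h1 := Flat.flat_appLE g (isAffineOpen_top _) (isAffineOpen_top X') (V := ⊤) (U := ⊤) le_top
    have h2 : g.appLE ⊤ ⊤ le_top = g.appTop := by simp [Scheme.Hom.appLE]
    rw [h2] at h1
    exact (RingHom.flat_algebraMap_iff (R := A) (S := Γ(X', ⊤))).1
      ((RingHom.Flat.of_bijective (ConcreteCategory.bijective_of_isIso γA)).comp h1)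
  have hpo := Et18.isPushout_appTop_of_flat hsq.flip
  have hw : ∀ a : A, i.appTop (algebraMap A Γ(X', ⊤) a) = algebraMap k Γ(X, ⊤) (e a) := by
    intro a
    have h1 : γA ≫ g.appTop ≫ i.appTop = CommRingCat.ofHom e.toRingHom ≫ γk ≫ hX.appTop := by
      rw [← Scheme.Hom.comp_appTop, hsq.w, Scheme.Hom.comp_appTop, Scheme.ΓSpecIso_inv_naturality_assoc]
    exact congrArg (fun φ => CommRingCat.Hom.hom φ a) h1
  let π : Γ(X', ⊤) →ₐ[k] Γ(X, ⊤) :=
    { i.appTop.hom with
      commutes' := fun c => (hw (algebraMap k A c)).trans (congrArg _ (e.commutes c)) }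
  have hπ : Function.Surjective π := i.app_surjective ⊤ (isAffineOpen_top X')
  have hker : RingHom.ker π.toRingHom ≤ (RingHom.ker e.toRingHom).map (algebraMap A Γ(X', ⊤)) := by
    let M := (RingHom.ker e.toRingHom).map (algebraMap A Γ(X', ⊤))
    let qM : Γ(X', ⊤) ⟶ CommRingCat.of (Γ(X', ⊤) ⧸ M) := CommRingCat.ofHom (Ideal.Quotient.mk M)
    let ρ : k →+* Γ(X', ⊤) ⧸ M := (Ideal.Quotient.mk M).comp ((algebraMap A Γ(X', ⊤)).comp (algebraMap k A))
    have hc : (Spec.map (CommRingCat.ofHom e.toRingHom)).appTop ≫ ((Scheme.ΓSpecIso (CommRingCat.of k)).hom ≫ CommRingCat.ofHom ρ) =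
        g.appTop ≫ qM := by
      rw [Scheme.ΓSpecIso_naturality_assoc, ← cancel_epi γA]
      rw [show γA ≫ (Scheme.ΓSpecIso (CommRingCat.of A)).hom ≫ CommRingCat.ofHom e.toRingHom ≫ CommRingCat.ofHom ρ =
        CommRingCat.ofHom e.toRingHom ≫ CommRingCat.ofHom ρ from (Iso.inv_hom_id_assoc _ _)]
      refine CommRingCat.hom_ext (RingHom.ext fun a => ?_)
      show Ideal.Quotient.mk M (algebraMap A Γ(X', ⊤) (algebraMap k A (e a))) = Ideal.Quotient.mk M (algebraMap A Γ(X', ⊤) a)
      refine Ideal.Quotient.eq.2 ?_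
      rw [← map_sub]
      refine Ideal.mem_map_of_mem _ ?_
      simp
    intro b hb
    have h1 := congrArg (fun φ => CommRingCat.Hom.hom φ b) (hpo.inr_desc _ _ hc)
    have h2 : qM b = 0 := by
      refine h1.symm.trans ?_
      show hpo.desc _ _ hc (i.appTop b) = 0
      rw [show i.appTop b = 0 from hb, map_zero]
    exact Ideal.Quotient.eq_zero_iff_mem.1 h2
  let s' : Γ(X, ⊤) →ₐ[k] Γ(X', ⊤) := { s with commutes' := hk }
  have hbij := bijective_lift_of_section k A e Γ(X, ⊤) Γ(X', ⊤) π hker hw s' hs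
  let Φ := RingEquiv.ofBijective _ hbij
  have hB : IsPushout (CommRingCat.ofHom (algebraMap k A)) (CommRingCat.ofHom (algebraMap k Γ(X, ⊤)))
      (CommRingCat.ofHom (algebraMap A Γ(X', ⊤))) (CommRingCat.ofHom s) := by
    refine (CommRingCat.isPushout_tensorProduct k A Γ(X, ⊤)).of_iso (Iso.refl _) (Iso.refl _) (Iso.refl _)
      Φ.toCommRingCatIso (by simp) (by simp) ?_ ?_
    · refine CommRingCat.hom_ext (RingHom.ext fun a => ?_)
      show Algebra.TensorProduct.lift (Algebra.ofId A Γ(X', ⊤)) s' (fun _ _ => Commute.all _ _) (a ⊗ₜ 1) = algebraMap A _ a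
      simp
    · refine CommRingCat.hom_ext (RingHom.ext fun a => ?_)
      show Algebra.TensorProduct.lift (Algebra.ofId A Γ(X', ⊤)) s' (fun _ _ => Commute.all _ _) ((1 : A) ⊗ₜ a) = s a
      simp [s']
  have hP := isPullback_SpecMap_of_isPushout _ _ _ _ hB.flip
  let u : X' ⟶ X := X'.isoSpec.hom ≫ Spec.map (CommRingCat.ofHom s) ≫ X.isoSpec.inv
  have hfin : IsPullback u g hX (Spec.map (CommRingCat.ofHom (algebraMap k A))) := by
    refine hP.of_iso' X'.isoSpec X.isoSpec (Iso.refl _) (Iso.refl _) (by simp [u]) ?_ ?_ (by simp)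
    · refine ext_of_isAffine ?_
      simp only [Scheme.Hom.comp_appTop, Iso.refl_hom, Category.comp_id, Scheme.isoSpec_hom]
      rw [Scheme.toSpecΓ_appTop, Scheme.ΓSpecIso_naturality]
      exact (Iso.hom_inv_id_assoc (Scheme.ΓSpecIso (CommRingCat.of A)) g.appTop)
    · refine ext_of_isAffine ?_
      simp only [Scheme.Hom.comp_appTop, Iso.refl_hom, Category.comp_id, Scheme.isoSpec_hom]
      rw [Scheme.toSpecΓ_appTop, Scheme.ΓSpecIso_naturality]
      exact (Iso.hom_inv_id_assoc (Scheme.ΓSpecIso (CommRingCat.of k)) hX.appTop)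
  have hu : u.appTop = CommRingCat.ofHom s := by
    have h1 : (u ≫ X.isoSpec.hom).appTop = X.isoSpec.hom.appTop ≫ u.appTop := Scheme.Hom.comp_appTop _ _
    have h2 : u ≫ X.isoSpec.hom = X'.isoSpec.hom ≫ Spec.map (CommRingCat.ofHom s) := by simp [u]
    rw [h2, Scheme.Hom.comp_appTop, Scheme.isoSpec_hom, Scheme.isoSpec_hom, Scheme.toSpecΓ_appTop,
      Scheme.toSpecΓ_appTop, Scheme.ΓSpecIso_naturality] at h1
    exact ((cancel_epi (Scheme.ΓSpecIso Γ(X, ⊤)).hom).1 h1).symm
  refine ⟨u, hu, ext_of_isAffine ?_, hfin⟩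
  rw [Scheme.Hom.comp_appTop, hu, Scheme.Hom.id_appTop]
  exact CommRingCat.hom_ext (RingHom.ext hs)

/-- A flat deformation of a smooth affine scheme has a section of its reduction map. -/
theorem exists_ringHom_section
    (hsm : ((Scheme.ΓSpecIso (CommRingCat.of k)).inv ≫ hX.appTop).hom.Smooth)
    (hsq : IsPullback i hX g (Spec.map (CommRingCat.ofHom e.toRingHom))) :
    ∃ s : Γ(X, ⊤) →+* Γ(X', ⊤), (∀ c, s (((Scheme.ΓSpecIso (CommRingCat.of k)).inv ≫ hX.appTop) c) =
      ((Scheme.ΓSpecIso (CommRingCat.of A)).inv ≫ g.appTop) (algebraMap k A c)) ∧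
      ∀ r, i.appTop (s r) = r := by
  haveI : IsClosedImmersion i := MorphismProperty.of_isPullback hsq.flip
    (IsClosedImmersion.spec_of_surjective _ fun c => ⟨algebraMap k A c, e.commutes c⟩)
  let γk := (Scheme.ΓSpecIso (CommRingCat.of k)).inv
  let γA := (Scheme.ΓSpecIso (CommRingCat.of A)).inv
  letI algR : Algebra k Γ(X, ⊤) := (γk ≫ hX.appTop).hom.toAlgebra
  letI algAB : Algebra A Γ(X', ⊤) := (γA ≫ g.appTop).hom.toAlgebra
  letI algkB : Algebra k Γ(X', ⊤) := ((γA ≫ g.appTop).hom.comp (algebraMap k A)).toAlgebra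
  haveI : IsScalarTower k A Γ(X', ⊤) := IsScalarTower.of_algebraMap_eq' rfl
  haveI : Algebra.Smooth k Γ(X, ⊤) := hsm
  haveI : Module.Flat A Γ(X', ⊤) := by
    have h1 := Flat.flat_appLE g (isAffineOpen_top _) (isAffineOpen_top X') (V := ⊤) (U := ⊤) le_top
    have h2 : g.appLE ⊤ ⊤ le_top = g.appTop := by simp [Scheme.Hom.appLE]
    rw [h2] at h1
    exact (RingHom.flat_algebraMap_iff (R := A) (S := Γ(X', ⊤))).1
      ((RingHom.Flat.of_bijective (ConcreteCategory.bijective_of_isIso γA)).comp h1)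
  have hpo := Et18.isPushout_appTop_of_flat hsq.flip
  have hw : ∀ a : A, i.appTop (algebraMap A Γ(X', ⊤) a) = algebraMap k Γ(X, ⊤) (e a) := by
    intro a
    have h1 : γA ≫ g.appTop ≫ i.appTop = CommRingCat.ofHom e.toRingHom ≫ γk ≫ hX.appTop := by
      rw [← Scheme.Hom.comp_appTop, hsq.w, Scheme.Hom.comp_appTop, Scheme.ΓSpecIso_inv_naturality_assoc]
    exact congrArg (fun φ => CommRingCat.Hom.hom φ a) h1
  let π : Γ(X', ⊤) →ₐ[k] Γ(X, ⊤) :=
    { i.appTop.hom with
      commutes' := fun c => (hw (algebraMap k A c)).trans (congrArg _ (e.commutes c)) }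
  have hπ : Function.Surjective π := i.app_surjective ⊤ (isAffineOpen_top X')
  have hker : RingHom.ker π.toRingHom ≤ (RingHom.ker e.toRingHom).map (algebraMap A Γ(X', ⊤)) := by
    let M := (RingHom.ker e.toRingHom).map (algebraMap A Γ(X', ⊤))
    let qM : Γ(X', ⊤) ⟶ CommRingCat.of (Γ(X', ⊤) ⧸ M) := CommRingCat.ofHom (Ideal.Quotient.mk M)
    let ρ : k →+* Γ(X', ⊤) ⧸ M := (Ideal.Quotient.mk M).comp ((algebraMap A Γ(X', ⊤)).comp (algebraMap k A))
    have hc : (Spec.map (CommRingCat.ofHom e.toRingHom)).appTop ≫ ((Scheme.ΓSpecIso (CommRingCat.of k)).hom ≫ CommRingCat.ofHom ρ) =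
        g.appTop ≫ qM := by
      rw [Scheme.ΓSpecIso_naturality_assoc, ← cancel_epi γA]
      rw [show γA ≫ (Scheme.ΓSpecIso (CommRingCat.of A)).hom ≫ CommRingCat.ofHom e.toRingHom ≫ CommRingCat.ofHom ρ =
        CommRingCat.ofHom e.toRingHom ≫ CommRingCat.ofHom ρ from (Iso.inv_hom_id_assoc _ _)]
      refine CommRingCat.hom_ext (RingHom.ext fun a => ?_)
      show Ideal.Quotient.mk M (algebraMap A Γ(X', ⊤) (algebraMap k A (e a))) = Ideal.Quotient.mk M (algebraMap A Γ(X', ⊤) a)
      refine Ideal.Quotient.eq.2 ?_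
      rw [← map_sub]
      refine Ideal.mem_map_of_mem _ ?_
      simp
    intro b hb
    have h1 := congrArg (fun φ => CommRingCat.Hom.hom φ b) (hpo.inr_desc _ _ hc)
    have h2 : qM b = 0 := by
      refine h1.symm.trans ?_
      show hpo.desc _ _ hc (i.appTop b) = 0
      rw [show i.appTop b = 0 from hb, map_zero]
    exact Ideal.Quotient.eq_zero_iff_mem.1 h2
  obtain ⟨s, hs⟩ := exists_section k A e Γ(X, ⊤) Γ(X', ⊤) π hπ hker
  exact ⟨s.toRingHom, fun c => s.commutes c, hs⟩

end Section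

theorem exists_iso_trivial (k : Type u) [Field k] [IsAlgClosed k] (X : Scheme.{u})
    (hX : X ⟶ Spec (CommRingCat.of k)) [IsAffine X]
    [LocallyOfFiniteType hX] (hreg : ∀ x : X, IsRegularLocalRing (X.presheaf.stalk x))
    (A : Type u) [CommRing A] [IsLocalRing A] [IsArtinianRing A] [Algebra k A] (e : A →ₐ[k] k)
    (X' : Scheme.{u}) (g : X' ⟶ Spec (CommRingCat.of A)) [Flat g] (i : X ⟶ X')
    (hsq : IsPullback i hX g (Spec.map (CommRingCat.ofHom e.toRingHom))) :
    ∃ φ : X' ≅ pullback hX (Spec.map (CommRingCat.ofHom (algebraMap k A))),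
      φ.hom ≫ pullback.snd hX (Spec.map (CommRingCat.ofHom (algebraMap k A))) = g := by
  have hesurj : Function.Surjective e := fun c => ⟨algebraMap k A c, e.commutes c⟩
  have hse : IsClosedImmersion (Spec.map (CommRingCat.ofHom e.toRingHom)) :=
    IsClosedImmersion.spec_of_surjective _ hesurj
  haveI : Surjective (Spec.map (CommRingCat.ofHom e.toRingHom)) := by
    refine ⟨fun p => ⟨IsLocalRing.closedPoint k, ?_⟩⟩
    exact Subsingleton.elim (α := PrimeSpectrum A) _ _
  haveI : IsClosedImmersion i := MorphismProperty.of_isPullback hsq.flip hse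
  haveI : Surjective i := MorphismProperty.of_isPullback hsq.flip inferInstance
  haveI : IsAffine X' := Groth.Agent.VarietyLib.isAffine_of_surjective_closedImmersion i i.surjective
  letI algR : Algebra k Γ(X, ⊤) := ((Scheme.ΓSpecIso (CommRingCat.of k)).inv ≫ hX.appTop).hom.toAlgebra
  haveI : Algebra.FiniteType k Γ(X, ⊤) := by
    have h1 := LocallyOfFiniteType.finiteType_appLE hX (isAffineOpen_top _) (isAffineOpen_top X) (V := ⊤) (U := ⊤) le_top
    have h2 : hX.appLE ⊤ ⊤ le_top = hX.appTop := by simp [Scheme.Hom.appLE]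
    rw [h2] at h1
    exact (RingHom.finiteType_algebraMap (A := k) (B := Γ(X, ⊤))).1
      (h1.comp (RingHom.FiniteType.of_surjective (Scheme.ΓSpecIso (CommRingCat.of k)).inv.hom (ConcreteCategory.bijective_of_isIso (Scheme.ΓSpecIso (CommRingCat.of k)).inv).2))
  haveI := smooth_of_regular_stalks k X hreg
  obtain ⟨s, hk, hs⟩ := exists_ringHom_section (hX := hX) (show RingHom.Smooth _ from ‹Algebra.Smooth k Γ(X, ⊤)›) hsq
  obtain ⟨u, -, -, hfin⟩ := exists_isPullback_of_section hsq s hk hs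
  exact ⟨hfin.isoPullback, hfin.isoPullback_hom_snd⟩

end Groth.Agent.ArtGlobal29
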